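import Mathlib

/-!
# S3519 (an element with between 1 and `n^(1/3)` fixed points): the boxes (helper97)

All boxes live in universe 0.  See `notes/FP3/plan.md`.
-/

set_option autoImplicit false

namespace Cfsg.Agent.FP3

open MulAction

/-- the number of cosets of `A` fixed by `a` -/
noncomputable def fx {T : Type*} [Group T] (A : Subgroup T) (a : T) : ℕ := Nat.card (fixedBy (T ⧸ A) a)

/-- some element of `A` fixes at most `|T : A| ^ (1/3)` cosets of `A` -/
def Good {T : Type*} [Group T] (A : Subgroup T) : Prop := ∃ a ∈ A, fx A a ^ 3 ≤ A.index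

/-- `A = H ∩ T` and `Γ ≤ Aut T` is the group induced by `H`, for a core-free maximal subgroup `H` of an almost simple
group with socle `T`: `A` is maximal among the proper `Γ`-invariant subgroups. -/
structure MI {T : Type*} [Group T] (A : Subgroup T) (Γ : Subgroup (MulAut T)) : Prop where
  max : ∀ B : Subgroup T, A ≤ B → (∀ σ ∈ Γ, ∀ b ∈ B, σ b ∈ B) → B = A ∨ B = ⊤
  ne_top : A ≠ ⊤
  ne_bot : A ≠ ⊥
  conj : ∀ a : T, MulAut.conj a ∈ Γ ↔ a ∈ A
  inv : ∀ σ ∈ Γ, ∀ a : T, σ a ∈ A ↔ a ∈ A

/-- the almost simple case for the socle `T` -/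
def ASRow (T : Type*) [Group T] : Prop := ∀ (A : Subgroup T) (Γ : Subgroup (MulAut T)), MI A Γ → Good A

/-- some element has a centraliser of order at most `|T| ^ (1/3)` -/
def CentRow (T : Type*) [Group T] : Prop :=
  ∃ t : T, Nat.card (Subgroup.centralizer ({t} : Set T)) ^ 3 ≤ Nat.card T

/-- every non-identity element lies in a generating pair -/
def GenRow (T : Type*) [Group T] : Prop := ∀ x : T, x ≠ 1 → ∃ y : T, Subgroup.closure ({x, y} : Set T) = ⊤

/-- box AS -/
def AS : Prop := ∀ (T : Type) [Group T] [Finite T] [IsSimpleGroup T], ¬ IsMulCommutative T → ASRow T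

/-- box CENT -/
def Cent : Prop := ∀ (T : Type) [Group T] [Finite T] [IsSimpleGroup T], ¬ IsMulCommutative T → CentRow T

/-- box GEN (this is S3938) -/
def Gen : Prop := ∀ (T : Type) [Group T] [Finite T] [IsSimpleGroup T], ¬ IsMulCommutative T → GenRow T

/-- box SCH (a form of S5758): perfect groups of automorphisms of a simple group are inner -/
def Sch : Prop := ∀ (T : Type) [Group T] [Finite T] [IsSimpleGroup T] (P : Subgroup (MulAut T)), ⁅P, P⁆ = P →
  P ≤ (MulAut.conj : T →* MulAut T).range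

/-- box AFF: a non-trivial group `H` acting faithfully on an abelian group `V` with no invariant subgroup
except `⊥` and `⊤` -/
def Aff : Prop := ∀ (V H : Type) [CommGroup V] [Finite V] [Group H] [Finite H] [Nontrivial H] [MulDistribMulAction H V]
  [FaithfulSMul H V], (∀ W : Subgroup V, (∀ (h : H), ∀ w ∈ W, h • w ∈ W) → W = ⊥ ∨ W = ⊤) →
  ∃ h : H, Nat.card (fixedBy V h) ^ 3 ≤ Nat.card V

/-- box REG: the same for a non-abelian group `N` (types TW, HS, HC) -/
def Reg : Prop := ∀ (N H : Type) [Group N] [Finite N] [Group H] [Finite H] [MulDistribMulAction H N]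
  [FaithfulSMul H N], ¬ IsMulCommutative N →
  (∀ W : Subgroup N, (∀ (h : H), ∀ w ∈ W, h • w ∈ W) → W = ⊥ ∨ W = ⊤) →
  ∃ h : H, Nat.card (fixedBy N h) ^ 3 ≤ Nat.card N

/-- the statement S3519 in universes `u`, `v` -/
def Main.{u, v} : Prop := ∀ (G : Type u) [Group G] [Finite G] (Ω : Type v) [Fintype Ω] [MulAction G Ω] [FaithfulSMul G Ω],
  MulAction.IsPreprimitive G Ω → (∃ ω : Ω, MulAction.stabilizer G ω ≠ ⊥) →
  ∃ g : G, 1 ≤ Nat.card (fixedBy Ω g) ∧ Nat.card (fixedBy Ω g) ^ 3 ≤ Fintype.card Ω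

end Cfsg.Agent.FP3
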